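import Mathlib
import Cfsg.Agent.S0016

/-!
# Fixed-point-free ring representations (helper16, Zassenhaus project)

`Fpf ρ` for a monoid hom `ρ : G →* R` into a ring: `1 ≠ 0` and `ρ g - 1` is a unit for `g ≠ 1`.
Basic consequences: unique central involution mapping to `-1`, elements of order `3`, commuting
elements of prime order generate the same subgroup, `p`-groups are cyclic or quaternion.
-/

set_option autoImplicit false

namespace Cfsg.Agent.Lib.Helper16.Zas

open Finset

variable {G : Type*} [Group G] {R : Type*} [Ring R]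

/-- A fixed-point-free ring representation. -/
structure Fpf (ρ : G →* R) : Prop where
  nt : (1 : R) ≠ 0
  unit : ∀ g : G, g ≠ 1 → IsUnit (ρ g - 1)

theorem isUnit_of_mul_right {x y : R} (hxy : IsUnit (x * y)) (hy : IsUnit y) : IsUnit x := by
  obtain ⟨u, hu⟩ := hy
  have h1 := hxy.mul (u⁻¹).isUnit
  rw [← hu, mul_assoc, Units.mul_inv, mul_one] at h1
  exact h1

namespace Fpf

variable {ρ : G →* R}

theorem inj (h : Fpf ρ) {g k : G} (hgk : ρ g = ρ k) : g = k := by
  by_contra hne
  have h1 : g * k⁻¹ ≠ 1 := fun h2 => hne (mul_inv_eq_one.mp h2)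
  have h2 := h.unit _ h1
  have h3 : ρ (g * k⁻¹) = 1 := by
    rw [map_mul, hgk, ← map_mul, mul_inv_cancel, map_one]
  rw [h3, sub_self] at h2
  exact h.nt (isUnit_zero_iff.mp h2).symm

theorem restrict (h : Fpf ρ) (H : Subgroup G) : Fpf (ρ.comp H.subtype) :=
  ⟨h.nt, fun _ hg => h.unit _ (fun h1 => hg (Subtype.ext h1))⟩

theorem isUnit_map (ρ : G →* R) (g : G) : IsUnit (ρ g) := (Group.isUnit g).map ρ

theorem neg_one (h : Fpf ρ) {z : G} (hz : z ≠ 1) (hzz : z * z = 1) : ρ z = -1 := by
  have h1 := h.unit z hz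
  have h2 : (ρ z - 1) * (ρ z + 1) = 0 := by
    have h3 : ρ z * ρ z = 1 := by rw [← map_mul, hzz, map_one]
    linear_combination (norm := noncomm_ring) h3
  exact eq_neg_of_add_eq_zero_left (h1.mul_right_eq_zero.mp h2)

theorem invol_unique (h : Fpf ρ) {z w : G} (hz : z ≠ 1) (hzz : z * z = 1) (hw : w ≠ 1)
    (hww : w * w = 1) : w = z :=
  h.inj ((h.neg_one hw hww).trans (h.neg_one hz hzz).symm)

theorem invol_central (h : Fpf ρ) {z : G} (hz : z ≠ 1) (hzz : z * z = 1) (g : G) :
    g * z = z * g := by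
  apply h.inj
  rw [map_mul, map_mul, h.neg_one hz hzz, mul_neg_one, neg_one_mul]

theorem two_unit (h : Fpf ρ) {z : G} (hz : z ≠ 1) (hzz : z * z = 1) : IsUnit (2 : R) := by
  have h1 := h.unit z hz
  rw [h.neg_one hz hzz] at h1
  have h2 : (-1 - 1 : R) = -2 := by norm_num
  rw [h2] at h1
  exact (IsUnit.neg_iff _).mp h1

theorem order3 (h : Fpf ρ) {a : G} (ha : a ≠ 1) (ha3 : a ^ 3 = 1) :
    ρ a * ρ a + ρ a + 1 = 0 := by
  have h1 := h.unit a ha
  have h2 : (ρ a - 1) * (ρ a * ρ a + ρ a + 1) = 0 := by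
    have h3 : ρ a * ρ a * ρ a = 1 := by
      rw [← map_mul, ← map_mul]
      have h4 : a * a * a = 1 := by rw [← pow_three', ha3]
      rw [h4, map_one]
    linear_combination (norm := noncomm_ring) h3
  exact h1.mul_right_eq_zero.mp h2

theorem three_unit (h : Fpf ρ) {a : G} (ha : a ≠ 1) (ha3 : a ^ 3 = 1) : IsUnit (3 : R) := by
  have h1 := h.unit a ha
  have h2 := h.order3 ha ha3
  have h3 : (ρ a - 1) * (ρ a - 1) = -(3 * ρ a) := by
    linear_combination (norm := noncomm_ring) h2
  have h4 : IsUnit (3 * ρ a) := by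
    have h5 := h1.mul h1
    rw [h3] at h5
    exact (IsUnit.neg_iff _).mp h5
  exact isUnit_of_mul_right h4 (isUnit_map ρ a)

theorem geom_zero (h : Fpf ρ) {g : G} (hg : g ≠ 1) {n : ℕ} (hgn : g ^ n = 1) :
    ∑ k ∈ range n, ρ g ^ k = 0 := by
  have h1 := h.unit g hg
  have h2 : (ρ g - 1) * ∑ k ∈ range n, ρ g ^ k = 0 := by
    rw [mul_geom_sum, ← map_pow, hgn, map_one, sub_self]
  exact h1.mul_right_eq_zero.mp h2

theorem prime_ne_zero (h : Fpf ρ) {p : ℕ} (hp : p.Prime) {x : G} (hx : orderOf x = p) :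
    (p : R) ≠ 0 := by
  intro h0
  have : Nontrivial R := ⟨⟨1, 0, h.nt⟩⟩
  have : Fact p.Prime := ⟨hp⟩
  have : CharP R p := (CharP.charP_iff_prime_eq_zero hp).mpr h0
  have hx1 : x ≠ 1 := by
    intro h1
    rw [h1, orderOf_one] at hx
    exact hp.one_lt.ne hx
  have h1 := h.unit x hx1
  have h2 : (ρ x - 1) ^ p = 0 := by
    rw [sub_pow_char_of_commute p (Commute.one_right _), one_pow, ← map_pow, ← hx,
      pow_orderOf_eq_one, map_one, sub_self]
  have h3 := h1.pow p
  rw [h2] at h3
  exact h.nt (isUnit_zero_iff.mp h3).symm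

/-- Commuting elements of the same prime order generate the same subgroup. -/
theorem mem_zpowers_of_commute (h : Fpf ρ) {p : ℕ} (hp : p.Prime) {x y : G}
    (hx : orderOf x = p) (hy : orderOf y = p) (hxy : x * y = y * x) :
    y ∈ Subgroup.zpowers x := by
  by_contra hyx
  apply h.prime_ne_zero hp hx
  have hxp : x ^ p = 1 := by rw [← hx]; exact pow_orderOf_eq_one x
  have hyp : y ^ p = 1 := by rw [← hy]; exact pow_orderOf_eq_one y
  have hc : Commute x y := hxy
  have h1 : ∀ j : ℕ, ∑ k ∈ range p, ρ (x ^ j * y) ^ k = 0 := by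
    intro j
    apply h.geom_zero
    · intro h2
      apply hyx
      have h3 : y = (x ^ j)⁻¹ := eq_inv_of_mul_eq_one_right h2
      rw [h3]
      exact Subgroup.inv_mem _ (Subgroup.pow_mem _ (Subgroup.mem_zpowers x) j)
    · rw [(hc.pow_left j).mul_pow, ← pow_mul, mul_comm j p, pow_mul, hxp, one_pow, hyp, one_mul]
  have h2 : ∀ k : ℕ, k ∈ range p → k ≠ 0 → ∑ j ∈ range p, ρ (x ^ k) ^ j = 0 := by
    intro k hk hk0
    apply h.geom_zero
    · intro h3
      have h4 := orderOf_dvd_of_pow_eq_one h3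
      rw [hx] at h4
      have h5 := Nat.le_of_dvd (Nat.pos_of_ne_zero hk0) h4
      have h6 := mem_range.mp hk
      omega
    · rw [← pow_mul, mul_comm, pow_mul, hxp, one_pow]
  have h3 : ∑ j ∈ range p, ∑ k ∈ range p, ρ (x ^ j * y) ^ k = (p : R) := by
    rw [Finset.sum_comm]
    have h4 : ∀ k ∈ range p, ∑ j ∈ range p, ρ (x ^ j * y) ^ k =
        (∑ j ∈ range p, ρ (x ^ k) ^ j) * ρ y ^ k := by
      intro k _
      rw [Finset.sum_mul]
      apply Finset.sum_congr rfl
      intro j _
      rw [← map_pow, ← map_pow, ← map_pow, ← map_mul, (hc.pow_left j).mul_pow, ← pow_mul,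
        ← pow_mul, mul_comm j k]
    rw [Finset.sum_congr rfl h4, Finset.sum_eq_single_of_mem 0 (mem_range.mpr hp.pos)]
    · simp
    · intro k hk hk0
      rw [h2 k hk hk0, zero_mul]
  rw [← h3]
  exact Finset.sum_eq_zero (fun j _ => h1 j)

/-- A subgroup of prime order `p` equals the subgroup generated by a central element of
order `p`. -/
theorem subgroup_card_prime_eq (h : Fpf ρ) [Finite G] {p : ℕ} (hp : p.Prime) {c : G}
    (hc : orderOf c = p) (hcc : ∀ g : G, g * c = c * g) (H : Subgroup G)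
    (hH : Nat.card H = p) : H = Subgroup.zpowers c := by
  have : Fact p.Prime := ⟨hp⟩
  have hnt : Nontrivial H := by
    apply Finite.one_lt_card_iff_nontrivial.mp
    rw [hH]; exact hp.one_lt
  obtain ⟨⟨x, hxH⟩, hx1⟩ := exists_ne (1 : H)
  have hx1' : x ≠ 1 := fun h1 => hx1 (Subtype.ext h1)
  have hxo : orderOf x = p := by
    have h1 : orderOf (⟨x, hxH⟩ : H) ∣ p := hH ▸ orderOf_dvd_natCard _
    rw [Subgroup.orderOf_mk] at h1
    rcases (Nat.dvd_prime hp).mp h1 with h2 | h2
    · exact absurd (orderOf_eq_one_iff.mp h2) hx1'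
    · exact h2
  have hxc : x ∈ Subgroup.zpowers c := h.mem_zpowers_of_commute hp hc hxo (hcc x).symm
  have h1 : Subgroup.zpowers x ≤ H := Subgroup.zpowers_le.mpr hxH
  have h2 : Subgroup.zpowers x ≤ Subgroup.zpowers c := Subgroup.zpowers_le.mpr hxc
  have e1 : Subgroup.zpowers x = H :=
    Subgroup.eq_of_le_of_card_ge h1 (by rw [Nat.card_zpowers, hxo, hH])
  have e2 : Subgroup.zpowers x = Subgroup.zpowers c :=
    Subgroup.eq_of_le_of_card_ge h2 (by rw [Nat.card_zpowers, Nat.card_zpowers, hxo, hc])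
  rw [← e1, e2]

/-- A `p`-group with a fixed-point-free representation is cyclic or generalized quaternion. -/
theorem pgroup_cyclic_or_quat [Finite G] (h : Fpf ρ) (p : ℕ) [Fact p.Prime]
    (hG : IsPGroup p G) :
    IsCyclic G ∨ (p = 2 ∧ ∃ n, Nonempty (G ≃* QuaternionGroup (2 ^ n))) := by
  have hp : p.Prime := Fact.out
  apply Cfsg.Agent.S0016.result p hG
  intro H K hH hK
  rcases subsingleton_or_nontrivial G with hs | hnt
  · exfalso
    have h1 : Nat.card H ≤ Nat.card G := Nat.card_le_card_of_injective _ H.subtype_injective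
    rw [hH, Nat.card_of_subsingleton (1 : G)] at h1
    exact absurd hp.one_lt (by omega)
  · have := hG.center_nontrivial
    have hdvd : p ∣ Nat.card (Subgroup.center G) := by
      obtain ⟨m, hm⟩ := IsPGroup.iff_card.mp (hG.to_subgroup (Subgroup.center G))
      rw [hm]
      have hm0 : m ≠ 0 := by
        rintro rfl
        rw [pow_zero] at hm
        have := Finite.one_lt_card_iff_nontrivial.mpr (inferInstance : Nontrivial (Subgroup.center G))
        omega
      exact dvd_pow_self p hm0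
    obtain ⟨c, hc⟩ := exists_prime_orderOf_dvd_card' p hdvd
    have hc' : orderOf (c : G) = p := by rw [Subgroup.orderOf_coe]; exact hc
    have hcc : ∀ g : G, g * (c : G) = (c : G) * g := fun g => Subgroup.mem_center_iff.mp c.2 g
    rw [h.subgroup_card_prime_eq hp hc' hcc H hH, h.subgroup_card_prime_eq hp hc' hcc K hK]

end Fpf

end Cfsg.Agent.Lib.Helper16.Zas
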