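import Mathlib

/-!
# Fixed vectors of `p`-groups in characteristic `p` (helper16)

* `exists_fixed_ne_zero` : a finite `p`-group acting additively on an abelian group of exponent
  `p` fixes a non-zero element of every non-trivial invariant additive subgroup.
* `exists_fixed_ne_zero_rep` : a representation of a finite `p`-group over a field of
  characteristic `p` has a non-zero fixed vector in every non-zero invariant subspace.
-/

namespace Cfsg.Agent.Lib.Helper16

/-- A finite `p`-group acting additively on an abelian group of exponent `p` fixes a non-zero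
element of every non-trivial invariant additive subgroup. -/
theorem exists_fixed_ne_zero {p : ℕ} [Fact p.Prime] {P : Type*} [Group P] [Finite P]
    (hP : IsPGroup p P) {V : Type*} [AddCommGroup V] [DistribMulAction P V]
    (hV : ∀ v : V, p • v = 0) (U : AddSubgroup V) (hU : ∀ g : P, ∀ u ∈ U, g • u ∈ U)
    (hne : U ≠ ⊥) : ∃ u ∈ U, u ≠ 0 ∧ ∀ g : P, g • u = u := by
  obtain ⟨u₀, hu₀⟩ := AddSubgroup.ne_bot_iff_exists_ne_zero.mp hne
  have hu₀ : (u₀ : V) ≠ 0 := fun h => hu₀ (Subtype.ext h)
  let S : Set V := Set.range (fun g : P => g • (u₀ : V))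
  let A : AddSubgroup V := AddSubgroup.closure S
  have hSfin : Finite S := Set.finite_range _
  have hAfin : Finite A := by
    haveI : AddGroup.FG A := AddGroup.closure_finite_fg S
    apply AddCommGroup.finite_of_fg_isAddTorsion
    intro a
    rw [isOfFinAddOrder_iff_nsmul_eq_zero]
    exact ⟨p, (Fact.out : p.Prime).pos, Subtype.ext (hV a)⟩
  have hAinv : ∀ g : P, ∀ a ∈ A, g • a ∈ A := by
    intro g a ha
    induction ha using AddSubgroup.closure_induction with
    | mem x hx =>
      obtain ⟨h, rfl⟩ := hx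
      apply AddSubgroup.subset_closure
      exact ⟨g * h, mul_smul g h (u₀ : V)⟩
    | zero =>
      rw [smul_zero]
      exact A.zero_mem
    | add x y _ _ hx hy =>
      rw [smul_add]
      exact A.add_mem hx hy
    | neg x _ hx =>
      rw [smul_neg]
      exact A.neg_mem hx
  have hAU : A ≤ U := (AddSubgroup.closure_le U).mpr (by
    rintro _ ⟨g, rfl⟩
    exact hU g u₀ u₀.2)
  have hu₀A : (u₀ : V) ∈ A := AddSubgroup.subset_closure ⟨1, one_smul P (u₀ : V)⟩
  let A' : SubMulAction P V := { carrier := A, smul_mem' := fun g a ha => hAinv g a ha }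
  haveI : Finite A' := hAfin
  have hmod := hP.card_modEq_card_fixedPoints A'
  have hpA : p ∣ Nat.card A' := by
    have h1 : addOrderOf (⟨(u₀ : V), hu₀A⟩ : A) = p :=
      addOrderOf_eq_prime (Subtype.ext (hV u₀)) (fun h => hu₀ (congrArg Subtype.val h))
    have h2 := addOrderOf_dvd_natCard (⟨(u₀ : V), hu₀A⟩ : A)
    rw [h1] at h2
    exact h2
  have hpF : p ∣ Nat.card (MulAction.fixedPoints P A') :=
    Nat.modEq_zero_iff_dvd.mp (hmod.symm.trans (Nat.modEq_zero_iff_dvd.mpr hpA))
  have hzero : (⟨0, A.zero_mem⟩ : A') ∈ MulAction.fixedPoints P A' :=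
    fun g => Subtype.ext (smul_zero g)
  have hcard : 1 < Nat.card (MulAction.fixedPoints P A') := by
    have hpos : 0 < Nat.card (MulAction.fixedPoints P A') :=
      Nat.card_pos_iff.mpr ⟨⟨⟨_, hzero⟩⟩, inferInstance⟩
    have h1 := Nat.le_of_dvd hpos hpF
    have h2 := (Fact.out : p.Prime).one_lt
    omega
  rw [Finite.one_lt_card_iff_nontrivial] at hcard
  obtain ⟨x, hx⟩ := exists_ne (⟨⟨0, A.zero_mem⟩, hzero⟩ : MulAction.fixedPoints P A')
  refine ⟨((x : A') : V), hAU x.1.2, ?_, fun g => congrArg Subtype.val (x.2 g)⟩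
  intro h
  apply hx
  apply Subtype.ext
  apply Subtype.ext
  exact h

/-- A representation of a finite `p`-group over a field of characteristic `p` has a non-zero
fixed vector in every non-zero invariant subspace. -/
theorem exists_fixed_ne_zero_rep {p : ℕ} [Fact p.Prime] {P : Type*} [Group P] [Finite P]
    (hP : IsPGroup p P) {K : Type*} [Field K] [CharP K p] {V : Type*} [AddCommGroup V]
    [Module K V] (ρ : Representation K P V) (U : Submodule K V)
    (hU : ∀ g : P, ∀ u ∈ U, ρ g u ∈ U) (hne : U ≠ ⊥) :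
    ∃ u ∈ U, u ≠ 0 ∧ ∀ g : P, ρ g u = u := by
  letI : DistribMulAction P V := DistribMulAction.compHom V ρ
  have hV : ∀ v : V, p • v = 0 := by
    intro v
    rw [← Nat.cast_smul_eq_nsmul K p v, CharP.cast_eq_zero K p, zero_smul]
  have hne' : U.toAddSubgroup ≠ ⊥ := by
    intro h
    apply hne
    rw [eq_bot_iff]
    intro u hu
    have : u ∈ U.toAddSubgroup := hu
    rw [h, AddSubgroup.mem_bot] at this
    rw [Submodule.mem_bot]
    exact this
  obtain ⟨u, hu, hu0, hfix⟩ := exists_fixed_ne_zero hP hV U.toAddSubgroup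
    (fun g u hu => hU g u hu) hne'
  exact ⟨u, hu, hu0, fun g => hfix g⟩

end Cfsg.Agent.Lib.Helper16
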