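import Mathlib
import Cfsg.Agent.Lib.Helper10.BWDefs
import Cfsg.Agent.Lib.Helper83.IrrBasic

/-!
# S0997 case B2 (project BW, architect helper10): piece BW-DELTA (proved by helper16)

`(θ - θ') conj (θ - θ')` is orthogonal to every `χ₂ ∈ D`: the function `θ - θ'` vanishes on
`p`-regular elements and `χ₂` vanishes on `p`-singular elements.
-/

set_option autoImplicit false

namespace Cfsg.Agent.Lib.Helper10.BW

open Cfsg
open Cfsg.Agent.Lib.Helper83 (trivIrr)
open Cfsg.Agent.Lib.Helper10.BR (psum)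
open scoped ComplexConjugate

universe u

variable {G : Type u} [Group G] [Fintype G]

variable {p e : ℕ} {P : Subgroup G} {θ θ' : IrrCharacter G}
  {Xp Xm D : Finset (IrrCharacter G)}

/-- BW-DELTA -/
theorem delta (h : VTab G p e P θ θ' Xp Xm D)
    (hsing : ∀ g : G, p ∣ orderOf g → ∃ k : G, k * g * k⁻¹ ∈ P)
    (χ₂ : IrrCharacter G) (hχ₂ : χ₂ ∈ D) :
    classInner (pc (θ : G → ℂ) (θ : G → ℂ)) (χ₂ : G → ℂ) +
        classInner (pc (θ' : G → ℂ) (θ' : G → ℂ)) (χ₂ : G → ℂ) =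
      classInner (pc (θ : G → ℂ) (θ' : G → ℂ)) (χ₂ : G → ℂ) +
        classInner (pc (θ' : G → ℂ) (θ : G → ℂ)) (χ₂ : G → ℂ) := by
  unfold classInner
  rw [← mul_add, ← mul_add, ← Finset.sum_add_distrib, ← Finset.sum_add_distrib]
  congr 1
  apply Finset.sum_congr rfl
  intro g _
  by_cases hg : p ∣ orderOf g
  · obtain ⟨k, hk⟩ := hsing g hg
    have hg1 : g ≠ 1 := by
      rintro rfl
      rw [orderOf_one] at hg
      exact h.hp.one_lt.ne' (Nat.dvd_one.mp hg)
    have hk1 : k * g * k⁻¹ ≠ 1 := by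
      intro h1
      apply hg1
      have e1 : g = k⁻¹ * (k * g * k⁻¹) * k := by group
      rw [e1, h1]
      group
    have hz : (χ₂ : G → ℂ) g = 0 := by
      rw [← Cfsg.Agent.Lib.Helper83.irr_classFunction χ₂.2 g k]
      exact h.valD χ₂ hχ₂ _ hk hk1
    rw [hz]
    simp
  · simp only [pc]
    rw [h.reg g hg]

end Cfsg.Agent.Lib.Helper10.BW
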