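import Mathlib
import Cfsg.Agent.Lib.Helper10.BWDefs

/-!
# S0997 case B2 (project BW, architect helper10): piece BW-ITER (proved by helper16)

A finite set of nonnegative reals closed under `c ↦ ((1 + s c) / (1 + s))²`, `s > 1`, is
contained in `{1, 1 / s²}`.
-/

set_option autoImplicit false

namespace Cfsg.Agent.Lib.Helper10.BW

open Cfsg
open scoped ComplexConjugate

universe u

variable {G : Type u} [Group G] [Fintype G]

private theorem iter_diff (s c : ℝ) (hs : 1 < s) :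
    ((1 + s * c) / (1 + s)) ^ 2 - c = (s ^ 2 * c - 1) * (c - 1) / (1 + s) ^ 2 := by
  have h : (1 + s) ≠ 0 := by linarith
  field_simp
  ring

private theorem iter_diff' (s c : ℝ) (hs : 1 < s) :
    ((1 + s * c) / (1 + s)) ^ 2 - 1 / s ^ 2 =
      (s ^ 2 * c - 1) * (s ^ 2 * c + 2 * s + 1) / ((1 + s) ^ 2 * s ^ 2) := by
  have h : (1 + s) ≠ 0 := by linarith
  have h' : s ≠ 0 := by linarith
  field_simp
  ring

/-- BW-ITER -/
theorem iter (s : ℝ) (hs : 1 < s) (C : Finset ℝ) (h0 : ∀ c ∈ C, 0 ≤ c)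
    (hcl : ∀ c ∈ C, ((1 + s * c) / (1 + s)) ^ 2 ∈ C) : ∀ c ∈ C, c = 1 ∨ c = 1 / s ^ 2 := by
  intro c hc
  have hs0 : 0 < s := by linarith
  have hs2 : 0 < s ^ 2 := by positivity
  have hs21 : 1 < s ^ 2 := by nlinarith
  have hD : 0 < (1 + s) ^ 2 := by positivity
  have hD' : 0 < (1 + s) ^ 2 * s ^ 2 := by positivity
  have hinv : 1 / s ^ 2 < 1 := by
    rw [div_lt_one hs2]
    exact hs21
  by_contra hcon
  push Not at hcon
  obtain ⟨hc1, hc2⟩ := hcon
  rcases lt_or_gt_of_ne hc1 with hlt1 | hgt1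
  · rcases lt_or_gt_of_ne hc2 with hlt2 | hgt2
    · -- `c < 1 / s²`: take the largest such element
      have hne : (C.filter (fun c => c < 1 / s ^ 2)).Nonempty :=
        ⟨c, Finset.mem_filter.mpr ⟨hc, hlt2⟩⟩
      obtain ⟨M, hMdef⟩ : ∃ M, M = (C.filter (fun c => c < 1 / s ^ 2)).max' hne := ⟨_, rfl⟩
      have hMmem := Finset.max'_mem _ hne
      rw [← hMdef, Finset.mem_filter] at hMmem
      obtain ⟨hMC, hMlt⟩ := hMmem
      have hM0 := h0 M hMC
      have e1 : s ^ 2 * M - 1 < 0 := by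
        have := (lt_div_iff₀ hs2).mp hMlt
        linarith
      have e2 : M - 1 < 0 := by linarith
      have e3 : 0 < s ^ 2 * M + 2 * s + 1 := by nlinarith [mul_nonneg hs2.le hM0]
      have d1 := iter_diff s M hs
      have d2 := iter_diff' s M hs
      have p1 : 0 < (s ^ 2 * M - 1) * (M - 1) / (1 + s) ^ 2 :=
        div_pos (mul_pos_of_neg_of_neg e1 e2) hD
      have p2 : (s ^ 2 * M - 1) * (s ^ 2 * M + 2 * s + 1) / ((1 + s) ^ 2 * s ^ 2) < 0 :=
        div_neg_of_neg_of_pos (mul_neg_of_neg_of_pos e1 e3) hD'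
      have hφ : ((1 + s * M) / (1 + s)) ^ 2 ∈ C.filter (fun c => c < 1 / s ^ 2) :=
        Finset.mem_filter.mpr ⟨hcl M hMC, by linarith⟩
      have hle := Finset.le_max' _ _ hφ
      rw [← hMdef] at hle
      linarith
    · -- `1 / s² < c < 1`: take the smallest such element
      have hne : (C.filter (fun c => 1 / s ^ 2 < c ∧ c < 1)).Nonempty :=
        ⟨c, Finset.mem_filter.mpr ⟨hc, hgt2, hlt1⟩⟩
      obtain ⟨m, hmdef⟩ : ∃ m, m = (C.filter (fun c => 1 / s ^ 2 < c ∧ c < 1)).min' hne :=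
        ⟨_, rfl⟩
      have hmmem := Finset.min'_mem _ hne
      rw [← hmdef, Finset.mem_filter] at hmmem
      obtain ⟨hmC, hmgt, hmlt⟩ := hmmem
      have hm0 := h0 m hmC
      have e1 : 0 < s ^ 2 * m - 1 := by
        have := (div_lt_iff₀ hs2).mp hmgt
        linarith
      have e2 : m - 1 < 0 := by linarith
      have e3 : 0 < s ^ 2 * m + 2 * s + 1 := by nlinarith [mul_nonneg hs2.le hm0]
      have d1 := iter_diff s m hs
      have d2 := iter_diff' s m hs
      have p1 : (s ^ 2 * m - 1) * (m - 1) / (1 + s) ^ 2 < 0 :=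
        div_neg_of_neg_of_pos (mul_neg_of_pos_of_neg e1 e2) hD
      have p2 : 0 < (s ^ 2 * m - 1) * (s ^ 2 * m + 2 * s + 1) / ((1 + s) ^ 2 * s ^ 2) :=
        div_pos (mul_pos e1 e3) hD'
      have hφ : ((1 + s * m) / (1 + s)) ^ 2 ∈ C.filter (fun c => 1 / s ^ 2 < c ∧ c < 1) :=
        Finset.mem_filter.mpr ⟨hcl m hmC, by linarith, by linarith⟩
      have hle := Finset.min'_le _ _ hφ
      rw [← hmdef] at hle
      linarith
  · -- `1 < c`: take the largest element of `C`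
    have hne : C.Nonempty := ⟨c, hc⟩
    obtain ⟨M, hMdef⟩ : ∃ M, M = C.max' hne := ⟨_, rfl⟩
    have hMC : M ∈ C := by
      rw [hMdef]
      exact Finset.max'_mem _ hne
    have hcM : c ≤ M := by
      rw [hMdef]
      exact Finset.le_max' _ _ hc
    have e1 : 0 < s ^ 2 * M - 1 := by nlinarith
    have e2 : 0 < M - 1 := by linarith
    have d1 := iter_diff s M hs
    have p1 : 0 < (s ^ 2 * M - 1) * (M - 1) / (1 + s) ^ 2 := div_pos (mul_pos e1 e2) hD
    have hle := Finset.le_max' _ _ (hcl M hMC)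
    rw [← hMdef] at hle
    linarith

end Cfsg.Agent.Lib.Helper10.BW
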