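import Mathlib
import Cfsg.Prelude.Def_Solvable
import Cfsg.Agent.Lib.Helper14.PCore
import Cfsg.Agent.Lib.Helper29.BaerP2

/-!
# S4125, piece P13 (core): `G ⧸ O_{q'}(G)` is solvable in the case `p ≠ q`

`baer_quotient_solvable_of` is the statement of piece P13 with the two pieces it depends on
(P12: Sylow `q`-subgroups are abelian; P13a: the internal form of Lemma X) as hypotheses.
-/

set_option autoImplicit false

namespace Cfsg.Agent.Lib.Helper16

open Cfsg.Agent.Lib.Helper29 (qelt_image_mem_pCore)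

section Aux

/-- The `p`-core is normal. -/
theorem baerP13_pCore_normal {H : Type*} [Group H] (p : ℕ) : (Cfsg.pCore p H).Normal :=
  Subgroup.sSup_normal _ (fun _ hK => hK.1)

/-- The `p`-core is a `p`-group. -/
theorem baerP13_pCore_isPGroup {H : Type*} [Group H] (p : ℕ) [Fact p.Prime] :
    IsPGroup p (Cfsg.pCore p H) :=
  Sylow.sSup_of_normal _ (fun _ hK => hK.2) (fun _ hK => hK.1)

variable {H : Type*} [Group H] [Finite H]

/-- A subgroup without elements of order `q` has order prime to `q`. -/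
theorem baerP13_coprime_of_no_elt (q : ℕ) [Fact q.Prime] (M : Subgroup H)
    (hM : ∀ x ∈ M, orderOf x ≠ q) : (Nat.card M).Coprime q := by
  have hq : q.Prime := Fact.out
  rw [Nat.coprime_comm, hq.coprime_iff_not_dvd]
  intro hdvd
  obtain ⟨x, hx⟩ := exists_prime_orderOf_dvd_card' q hdvd
  apply hM (x : H) x.2
  rw [← hx, Subgroup.orderOf_coe]

/-- A normal abelian Sylow `q`-subgroup of a group without nontrivial normal `q'`-subgroups is
self-centralizing. -/
theorem baerP13_centralizer_le (q : ℕ) [Fact q.Prime] (A : Sylow q H)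
    (hAn : (A : Subgroup H).Normal) (hAc : ∀ x ∈ A, ∀ y ∈ A, x * y = y * x)
    (htriv : ∀ N : Subgroup H, N.Normal → (Nat.card N).Coprime q → N = ⊥) :
    Subgroup.centralizer ((A : Subgroup H) : Set H) ≤ A := by
  have hq : q.Prime := Fact.out
  set C : Subgroup H := Subgroup.centralizer ((A : Subgroup H) : Set H) with hC
  have hCn : C.Normal := by rw [hC]; infer_instance
  have hAC : (A : Subgroup H) ≤ C := by
    intro x hx
    rw [hC, Subgroup.mem_centralizer_iff]
    intro y hy
    exact hAc y hy x hx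
  set N : Subgroup ↥C := (A : Subgroup H).subgroupOf C with hN
  have hNn : N.Normal := by rw [hN]; infer_instance
  -- index of `N` is prime to `q`
  have hidx : N.index.Coprime q := by
    have h1 : N.index ∣ (A : Subgroup H).index := Subgroup.relIndex_dvd_index_of_le hAC
    have h2 : ((A : Subgroup H).index).Coprime q := by
      rw [Nat.coprime_comm, hq.coprime_iff_not_dvd]
      exact A.not_dvd_index
    exact Nat.Coprime.coprime_dvd_left h1 h2
  have hNp : IsPGroup q N := A.isPGroup'.comap_subtype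
  obtain ⟨j, hj⟩ := IsPGroup.iff_card.mp hNp
  have hcop : (Nat.card N).Coprime N.index := by
    rw [hj]
    exact Nat.Coprime.pow_left j (Nat.coprime_comm.mp hidx)
  obtain ⟨N0, hN0⟩ := Subgroup.exists_left_complement'_of_coprime hcop
  -- `N0` is normal in `C` since `N` is central in `C`
  have hcentral : ∀ n ∈ N, ∀ x : ↥C, n * x = x * n := by
    intro n hn x
    apply Subtype.ext
    have hx : (x : H) ∈ Subgroup.centralizer ((A : Subgroup H) : Set H) := x.2
    rw [Subgroup.mem_centralizer_iff] at hx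
    exact hx (n : H) (Subgroup.mem_subgroupOf.mp hn)
  have hN0n : N0.Normal := by
    constructor
    intro x hx c
    obtain ⟨⟨n0, n⟩, hc, -⟩ := (Subgroup.isComplement_iff_existsUnique.mp
      (Subgroup.isComplement'_def.mp hN0)) c
    have hc' : c = (n0 : ↥C) * (n : ↥C) := hc.symm
    have hcomm := hcentral (n : ↥C) n.2 x
    have : c * x * c⁻¹ = (n0 : ↥C) * x * (n0 : ↥C)⁻¹ := by
      rw [hc', mul_inv_rev, mul_assoc (n0 : ↥C), hcomm]
      group
    rw [this]
    exact N0.mul_mem (N0.mul_mem n0.2 hx) (N0.inv_mem n0.2)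
  have hN0idx : N0.index = q ^ j := by
    rw [← hj]
    exact hN0.symm.index_eq_card
  have hN0card : Nat.card N0 = N.index := hN0.index_eq_card.symm
  -- elements of `C` of order prime to `q` lie in `N0`
  have hmem : ∀ c : ↥C, (orderOf c).Coprime q → c ∈ N0 := by
    intro c hc
    have h1 : orderOf (QuotientGroup.mk' N0 c) ∣ orderOf c := orderOf_map_dvd _ c
    have h2 : orderOf (QuotientGroup.mk' N0 c) ∣ q ^ j := by
      rw [← hN0idx, Subgroup.index_eq_card]
      exact orderOf_dvd_natCard _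
    have h3 : orderOf (QuotientGroup.mk' N0 c) = 1 :=
      Nat.eq_one_of_dvd_coprimes (Nat.Coprime.pow_right j hc) h1 h2
    rw [orderOf_eq_one_iff] at h3
    exact (QuotientGroup.eq_one_iff c).mp h3
  -- the image of `N0` in `H` is normal
  set N1 : Subgroup H := N0.map C.subtype with hN1
  have hN1card : Nat.card N1 = Nat.card N0 :=
    Subgroup.card_map_of_injective C.subtype_injective
  have hN1n : N1.Normal := by
    constructor
    rintro _ ⟨x, hx, rfl⟩ g
    have hgx : g * (x : H) * g⁻¹ ∈ C := hCn.conj_mem _ x.2 g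
    refine ⟨⟨g * (x : H) * g⁻¹, hgx⟩, ?_, rfl⟩
    apply hmem
    have ho : orderOf (⟨g * (x : H) * g⁻¹, hgx⟩ : ↥C) = orderOf x := by
      rw [← Subgroup.orderOf_coe, ← Subgroup.orderOf_coe]
      have hsc : SemiconjBy g (x : H) (g * (x : H) * g⁻¹) := by
        unfold SemiconjBy
        group
      exact (hsc.orderOf_eq g).symm
    rw [ho]
    have : orderOf x ∣ Nat.card N0 := Subgroup.orderOf_dvd_natCard N0 hx
    rw [hN0card] at this
    exact Nat.Coprime.coprime_dvd_left this hidx
  have hN1bot : N1 = ⊥ := htriv N1 hN1n (by rw [hN1card, hN0card]; exact hidx)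
  have hN0bot : N0 = ⊥ := by
    rw [hN1] at hN1bot
    exact (Subgroup.map_eq_bot_iff_of_injective N0 C.subtype_injective).mp hN1bot
  -- so `N = ⊤`
  have hNtop : N = ⊤ := by
    apply Subgroup.eq_top_of_card_eq
    have := hN0.card_mul_card
    rw [hN0bot, Subgroup.card_bot, one_mul] at this
    exact this
  rw [hN, Subgroup.subgroupOf_eq_top] at hNtop
  exact hNtop

end Aux

variable {G : Type*} [Group G] [Finite G]

/-- `G ⧸ O_{q'}(G)` has no nontrivial normal subgroup of order prime to `q`. -/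
theorem baerP13_quot_triv (q : ℕ) [Fact q.Prime] (hn : (Cfsg.pPrimeCore q G).Normal)
    (hKc : (Nat.card (Cfsg.pPrimeCore q G)).Coprime q)
    (N : Subgroup (G ⧸ Cfsg.pPrimeCore q G)) (hN : N.Normal) (hc : (Nat.card N).Coprime q) :
    N = ⊥ := by
  have hq : q.Prime := Fact.out
  set K := Cfsg.pPrimeCore q G with hK
  set M : Subgroup G := N.comap (QuotientGroup.mk' K) with hM
  have hMn : M.Normal := hN.comap _
  have hMc : (Nat.card M).Coprime q := by
    apply baerP13_coprime_of_no_elt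
    intro x hx hxq
    have hx' : QuotientGroup.mk' K x ∈ N := hx
    have h1 : orderOf (QuotientGroup.mk' K x) ∣ q := by
      rw [← hxq]; exact orderOf_map_dvd _ x
    have h2 : orderOf (QuotientGroup.mk' K x) ∣ Nat.card N := Subgroup.orderOf_dvd_natCard N hx'
    have h3 : orderOf (QuotientGroup.mk' K x) = 1 :=
      Nat.eq_one_of_dvd_coprimes hc h2 h1
    rw [orderOf_eq_one_iff] at h3
    have hxK : x ∈ K := (QuotientGroup.eq_one_iff x).mp h3
    have h4 : orderOf x ∣ Nat.card K := Subgroup.orderOf_dvd_natCard K hxK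
    rw [hxq] at h4
    have := Nat.eq_one_of_dvd_coprimes hKc h4 dvd_rfl
    exact hq.one_lt.ne' this
  have hMK : M ≤ K := le_sSup ⟨hMn, hMc⟩
  have hNM : N = M.map (QuotientGroup.mk' K) := by
    rw [hM, Subgroup.map_comap_eq_self_of_surjective (QuotientGroup.mk'_surjective K)]
  rw [hNM, eq_bot_iff]
  calc M.map (QuotientGroup.mk' K) ≤ K.map (QuotientGroup.mk' K) := Subgroup.map_mono hMK
    _ = ⊥ := QuotientGroup.map_mk'_self K

/-- **S4125, piece P13**, with the results of pieces P12 and P13a as hypotheses: in the case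
`p ≠ q`, the quotient `G ⧸ O_{q'}(G)` is solvable. -/
theorem baer_quotient_solvable_of (p q : ℕ) [Fact p.Prime] [Fact q.Prime] (hpq : p ≠ q)
    (h : ∀ x : G, (∃ k : ℕ, orderOf x = q ^ k) → ∃ a : ℕ, (Subgroup.centralizer ({x} : Set G)).index = p ^ a)
    (hn : (Cfsg.pPrimeCore q G).Normal)
    (hP12 : ∀ Q : Sylow q G, IsMulCommutative (Q : Subgroup G))
    (hP13a : ∀ (A : Subgroup (G ⧸ Cfsg.pPrimeCore q G)), A.Normal → IsMulCommutative A →
      (Nat.card A).Coprime A.index → Subgroup.centralizer (A : Set (G ⧸ Cfsg.pPrimeCore q G)) ≤ A →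
      (∀ a ∈ A, ∃ k : ℕ, (Subgroup.centralizer ({a} : Set (G ⧸ Cfsg.pPrimeCore q G))).index = p ^ k) →
      Group.IsSolvable (G ⧸ Cfsg.pPrimeCore q G)) :
    Group.IsSolvable (G ⧸ Cfsg.pPrimeCore q G) := by
  have hp : p.Prime := Fact.out
  have hq : q.Prime := Fact.out
  have hKc : (Nat.card (Cfsg.pPrimeCore q G)).Coprime q :=
    Cfsg.Agent.Lib.Helper14.pPrimeCore_coprime
  have hsurj : Function.Surjective (QuotientGroup.mk' (Cfsg.pPrimeCore q G)) :=
    QuotientGroup.mk'_surjective _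
  obtain ⟨Q⟩ : Nonempty (Sylow q G) := inferInstance
  obtain ⟨A, hAcoe⟩ : ∃ A : Sylow q (G ⧸ Cfsg.pPrimeCore q G),
      (A : Subgroup (G ⧸ Cfsg.pPrimeCore q G))
        = (Q : Subgroup G).map (QuotientGroup.mk' (Cfsg.pPrimeCore q G)) :=
    ⟨Q.mapSurjective hsurj, Sylow.coe_mapSurjective hsurj Q⟩
  have hqel : ∀ x ∈ (Q : Subgroup G), ∃ k : ℕ, orderOf x = q ^ k := by
    intro x hx
    obtain ⟨k, hk⟩ := Q.isPGroup' ⟨x, hx⟩
    have hk' : x ^ q ^ k = 1 := by simpa using congrArg Subtype.val hk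
    obtain ⟨j, -, hj⟩ := (Nat.dvd_prime_pow hq).mp (orderOf_dvd_of_pow_eq_one hk')
    exact ⟨j, hj⟩
  have hpK : p ≠ q → Cfsg.pCore p G ≤ Cfsg.pPrimeCore q G := by
    intro _
    apply le_sSup
    refine ⟨baerP13_pCore_normal p, ?_⟩
    obtain ⟨j, hj⟩ := IsPGroup.iff_card.mp (baerP13_pCore_isPGroup (H := G) p)
    rw [hj]
    exact Nat.Coprime.pow_left j ((Nat.coprime_primes hp hq).mpr hpq)
  have hA_le : (A : Subgroup (G ⧸ Cfsg.pPrimeCore q G))
      ≤ Cfsg.pCore q (G ⧸ Cfsg.pPrimeCore q G) := by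
    rw [hAcoe]
    rintro _ ⟨x, hx, rfl⟩
    obtain ⟨a, ha⟩ := h x (hqel x hx)
    exact qelt_image_mem_pCore q (Cfsg.pPrimeCore q G) x (hqel x hx) p a hp ha hpK
  have hA_eq : Cfsg.pCore q (G ⧸ Cfsg.pPrimeCore q G) = A :=
    A.is_maximal' (baerP13_pCore_isPGroup q) hA_le
  have hAn : (A : Subgroup (G ⧸ Cfsg.pPrimeCore q G)).Normal := by
    rw [← hA_eq]
    exact baerP13_pCore_normal q
  have hQc : IsMulCommutative (Q : Subgroup G) := hP12 Q
  have hAc : IsMulCommutative (A : Subgroup (G ⧸ Cfsg.pPrimeCore q G)) := by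
    rw [hAcoe]
    infer_instance
  have hC := baerP13_centralizer_le q A hAn
    (fun x hx y hy => setLike_mul_comm (s := (A : Subgroup (G ⧸ Cfsg.pPrimeCore q G))) hx hy)
    (fun N hN hc => baerP13_quot_triv q hn hKc N hN hc)
  have ho : ∀ a ∈ (A : Subgroup (G ⧸ Cfsg.pPrimeCore q G)), ∃ k : ℕ,
      (Subgroup.centralizer ({a} : Set (G ⧸ Cfsg.pPrimeCore q G))).index = p ^ k := by
    intro a ha
    rw [hAcoe] at ha
    obtain ⟨x, hx, rfl⟩ := ha
    obtain ⟨a, ha⟩ := h x (hqel x hx)
    have hle : (Subgroup.centralizer ({x} : Set G)).map (QuotientGroup.mk' (Cfsg.pPrimeCore q G))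
        ≤ Subgroup.centralizer ({QuotientGroup.mk' (Cfsg.pPrimeCore q G) x} : Set _) := by
      rintro _ ⟨c, hc, rfl⟩
      have hc' : c ∈ Subgroup.centralizer ({x} : Set G) := hc
      rw [Subgroup.mem_centralizer_iff] at hc'
      rw [Subgroup.mem_centralizer_iff]
      intro y hy
      rw [Set.mem_singleton_iff] at hy
      subst hy
      rw [← map_mul, ← map_mul, hc' x rfl]
    have hdvd : (Subgroup.centralizer
        ({QuotientGroup.mk' (Cfsg.pPrimeCore q G) x} : Set _)).index ∣ p ^ a := by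
      rw [← ha]
      exact (Subgroup.index_dvd_of_le hle).trans (Subgroup.index_map_dvd _ hsurj)
    obtain ⟨k, -, hk⟩ := (Nat.dvd_prime_pow hp).mp hdvd
    exact ⟨k, hk⟩
  exact hP13a (A : Subgroup (G ⧸ Cfsg.pPrimeCore q G)) hAn hAc A.card_coprime_index hC ho

end Cfsg.Agent.Lib.Helper16
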