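import Mathlib
import Cfsg.Prelude.Def_Solvable
import Cfsg.Agent.Lib.Helper16.BaerP13Core
import Cfsg.Agent.Lib.Helper29.BaerP12
import Cfsg.Agent.Lib.Helper35.BaerP13a

/-!
# S4125, piece P13: `G ⧸ O_{q'}(G)` is solvable in the case `p ≠ q`
-/

set_option autoImplicit false

namespace Cfsg.Agent.Lib.Helper16

variable {G : Type*} [Group G] [Finite G]

/-- **S4125, piece P13**: in the case `p ≠ q`, the quotient `G ⧸ O_{q'}(G)` is solvable. -/
theorem baer_quotient_solvable (p q : ℕ) [Fact p.Prime] [Fact q.Prime] (hpq : p ≠ q)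
    (h : ∀ x : G, (∃ k : ℕ, orderOf x = q ^ k) → ∃ a : ℕ, (Subgroup.centralizer ({x} : Set G)).index = p ^ a)
    (hn : (Cfsg.pPrimeCore q G).Normal) : Group.IsSolvable (G ⧸ Cfsg.pPrimeCore q G) :=
  baer_quotient_solvable_of p q hpq h hn
    (fun Q => (Cfsg.Agent.Lib.Helper29.baer_ne_case p q hpq h Q).1)
    (fun A hAn hAc hcop hC ho => by
      have := hAn
      exact Cfsg.Agent.Lib.Helper35.lemmaX_internal p A hAc hcop hC ho)

end Cfsg.Agent.Lib.Helper16
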