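import Mathlib
import Cfsg.Agent.Lib.Helper22.HPDefs
import Cfsg.Agent.Lib.Helper83.IrrBasic
import Cfsg.Agent.Lib.Helper87.BFFIDX
import Cfsg.Agent.Lib.Helper64.HPMOMA

/-!
# S4504 / HP-MOMENT, sub-piece J3 = MOM-COUNT (helper16 for helper64)

Double counting of the triples `(x, t, u)` with `x (z^t u) x⁻¹ = g`, and the resulting formula
for the sum of a class function over the `p`-singular elements.
-/

set_option autoImplicit false
set_option linter.unusedSectionVars false
set_option linter.unusedVariables false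

namespace Cfsg.Agent.Lib.Helper16.HPT

open Cfsg Cfsg.Agent.Lib.Helper22.BFD Cfsg.Agent.Lib.Helper22.HPD Cfsg.Agent.Lib.Helper64.HPT
open scoped ComplexConjugate

universe u

variable {G : Type u} [Group G] [Fintype G]

/-- a conjugate of `z ^ t u` (`t ≠ 0`, `u` central) is `p`-singular -/
private theorem cnt_sing (p : ℕ) [Fact p.Prime]
    (hnn : ∀ H : Subgroup G, H.Normal → Nat.card H ≠ p) (z : G) (hz : orderOf z = p)
    (t : ZMod p) (ht : t ≠ 0) (u : G) (hu : u ∈ Subgroup.center G) (x g : G)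
    (h : x * (z ^ t.val * u) * x⁻¹ = g) : p ∣ orderOf g := by
  have hp : p.Prime := Fact.out
  have ho : orderOf g = orderOf (z ^ t.val * u) := by
    rw [← h, ← MulAut.conj_apply, MulEquiv.orderOf_eq]
  rw [ho]
  have hcomm : Commute (z ^ t.val) u := Subgroup.mem_center_iff.mp hu (z ^ t.val)
  have h1 : (z ^ t.val * u) ^ orderOf (z ^ t.val * u) = 1 := pow_orderOf_eq_one _
  rw [hcomm.mul_pow, ← pow_mul] at h1
  have h2 : z ^ (t.val * orderOf (z ^ t.val * u)) ∈ Subgroup.center G := by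
    rw [eq_inv_of_mul_eq_one_left h1]
    exact Subgroup.inv_mem _ (Subgroup.pow_mem _ hu _)
  have h3 := mom_pow_center p hnn z hz _ h2
  rcases hp.dvd_mul.mp h3 with h4 | h4
  · exfalso
    apply ht
    have h5 : t.val = 0 := Nat.eq_zero_of_dvd_of_lt h4 (ZMod.val_lt t)
    exact (ZMod.val_eq_zero t).mp h5
  · exact h4

open Classical in
/-- the number of triples `(x, t, u)` with `x (z^t u) x⁻¹ = g` -/
theorem mom_count (p : ℕ) [Fact p.Prime]
    (hnn : ∀ H : Subgroup G, H.Normal → Nat.card H ≠ p) (χ : G → ℂ) (z : G) (ζ : ℂ)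
    (hHP : HP p ζ z χ)
    (hpsing : ∀ g : G, p ∣ orderOf g → ∃ t : ZMod p, t ≠ 0 ∧ ∃ u ∈ Subgroup.center G,
      IsConj g (z ^ t.val * u))
    (hfiber : ∀ (t₀ : ZMod p), t₀ ≠ 0 → ∀ u₀ : G, u₀ ∈ Subgroup.center G → ∀ x : G,
      ((Finset.univ.filter (fun q : ZMod p × G => q.1 ≠ 0 ∧ q.2 ∈ Subgroup.center G ∧
        x * (z ^ q.1.val * q.2) * x⁻¹ = z ^ t₀.val * u₀)).card : ℝ) =
      if x ∈ Subgroup.normalizer ((Subgroup.zpowers z : Subgroup G) : Set G) then 1 else 0)
    (hnorm : Nat.card (Subgroup.normalizer ((Subgroup.zpowers z : Subgroup G) : Set G)) =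
      p * (Sq p).card * Nat.card (Subgroup.center G)) (g : G) :
    ∑ x : G, ((Finset.univ.filter (fun q : ZMod p × G => q.1 ≠ 0 ∧ q.2 ∈ Subgroup.center G ∧
        x * (z ^ q.1.val * q.2) * x⁻¹ = g)).card : ℝ) =
      if p ∣ orderOf g then ((p * (Sq p).card * Nat.card (Subgroup.center G) : ℕ) : ℝ) else 0 := by
  have hp : p.Prime := Fact.out
  have hz : orderOf z = p := hHP.hz
  split_ifs with hdvd
  · obtain ⟨t₀, ht₀, u₀, hu₀, hconj⟩ := hpsing g hdvd
    obtain ⟨c, hc⟩ := isConj_iff.mp hconj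
    have hstep : ∀ x : G,
        ((Finset.univ.filter (fun q : ZMod p × G => q.1 ≠ 0 ∧ q.2 ∈ Subgroup.center G ∧
          x * (z ^ q.1.val * q.2) * x⁻¹ = g)).card : ℝ) =
        if c * x ∈ Subgroup.normalizer ((Subgroup.zpowers z : Subgroup G) : Set G)
          then (1 : ℝ) else 0 := by
      intro x
      rw [← hfiber t₀ ht₀ u₀ hu₀ (c * x)]
      congr 2
      apply Finset.filter_congr
      intro q _
      constructor
      · rintro ⟨h1, h2, h3⟩
        refine ⟨h1, h2, ?_⟩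
        rw [← hc, ← h3]
        group
      · rintro ⟨h1, h2, h3⟩
        refine ⟨h1, h2, ?_⟩
        rw [← hc] at h3
        have h4 := congrArg (fun w => c⁻¹ * w * c) h3
        simp only [mul_inv_rev] at h4
        simpa [mul_assoc] using h4
    rw [Finset.sum_congr rfl (fun x _ => hstep x)]
    refine Eq.trans (Equiv.sum_comp (Equiv.mulLeft c) (fun x : G =>
      if x ∈ Subgroup.normalizer ((Subgroup.zpowers z : Subgroup G) : Set G)
        then (1 : ℝ) else 0)) ?_
    rw [Finset.sum_boole, ← hnorm]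
    congr 1
    exact (Nat.subtype_card _ (fun x => by simp)).symm
  · apply Finset.sum_eq_zero
    intro x _
    rw [Nat.cast_eq_zero, Finset.card_eq_zero, Finset.filter_eq_empty_iff]
    rintro q _ ⟨h1, h2, h3⟩
    exact hdvd (cnt_sing p hnn z hz q.1 h1 q.2 h2 x g h3)

open Classical in
/-- the sum of a class function over the `p`-singular elements -/
theorem mom_sing_sum (p : ℕ) [Fact p.Prime] (z : G)
    (hcount : ∀ g : G,
      ∑ x : G, ((Finset.univ.filter (fun q : ZMod p × G => q.1 ≠ 0 ∧ q.2 ∈ Subgroup.center G ∧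
        x * (z ^ q.1.val * q.2) * x⁻¹ = g)).card : ℝ) =
      if p ∣ orderOf g then ((p * (Sq p).card * Nat.card (Subgroup.center G) : ℕ) : ℝ) else 0)
    (F : G → ℝ) (hF : ∀ g x : G, F (x * g * x⁻¹) = F g) :
    ((p * (Sq p).card * Nat.card (Subgroup.center G) : ℕ) : ℝ) *
        ∑ g ∈ Finset.univ.filter (fun g : G => p ∣ orderOf g), F g =
      (Nat.card G : ℝ) * ∑ q ∈ Finset.univ.filter
        (fun q : ZMod p × G => q.1 ≠ 0 ∧ q.2 ∈ Subgroup.center G), F (z ^ q.1.val * q.2) := by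
  have hcard : ∀ x g : G,
      ((Finset.univ.filter (fun q : ZMod p × G => q.1 ≠ 0 ∧ q.2 ∈ Subgroup.center G ∧
        x * (z ^ q.1.val * q.2) * x⁻¹ = g)).card : ℝ) =
      ∑ q ∈ Finset.univ.filter (fun q : ZMod p × G => q.1 ≠ 0 ∧ q.2 ∈ Subgroup.center G),
        if x * (z ^ q.1.val * q.2) * x⁻¹ = g then (1 : ℝ) else 0 := by
    intro x g
    rw [Finset.sum_boole, Finset.filter_filter]
    congr 2
    apply Finset.filter_congr
    intro q _
    tauto
  have h1 : ((p * (Sq p).card * Nat.card (Subgroup.center G) : ℕ) : ℝ) *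
        ∑ g ∈ Finset.univ.filter (fun g : G => p ∣ orderOf g), F g =
      ∑ g : G, F g * ∑ x : G,
        ((Finset.univ.filter (fun q : ZMod p × G => q.1 ≠ 0 ∧ q.2 ∈ Subgroup.center G ∧
          x * (z ^ q.1.val * q.2) * x⁻¹ = g)).card : ℝ) := by
    rw [Finset.mul_sum, Finset.sum_filter]
    refine Finset.sum_congr rfl fun g _ => ?_
    rw [hcount g]
    split_ifs <;> ring
  rw [h1]
  have h2 : ∀ g : G, F g * ∑ x : G,
        ((Finset.univ.filter (fun q : ZMod p × G => q.1 ≠ 0 ∧ q.2 ∈ Subgroup.center G ∧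
          x * (z ^ q.1.val * q.2) * x⁻¹ = g)).card : ℝ) =
      ∑ x : G, ∑ q ∈ Finset.univ.filter
        (fun q : ZMod p × G => q.1 ≠ 0 ∧ q.2 ∈ Subgroup.center G),
        if x * (z ^ q.1.val * q.2) * x⁻¹ = g then F g else 0 := by
    intro g
    rw [Finset.mul_sum]
    refine Finset.sum_congr rfl fun x _ => ?_
    rw [hcard x g, Finset.mul_sum]
    refine Finset.sum_congr rfl fun q _ => ?_
    rw [mul_ite, mul_one, mul_zero]
  rw [Finset.sum_congr rfl (fun g _ => h2 g), Finset.sum_comm]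
  have h3 : ∀ x : G, ∑ g : G, ∑ q ∈ Finset.univ.filter
        (fun q : ZMod p × G => q.1 ≠ 0 ∧ q.2 ∈ Subgroup.center G),
        (if x * (z ^ q.1.val * q.2) * x⁻¹ = g then F g else 0) =
      ∑ q ∈ Finset.univ.filter
        (fun q : ZMod p × G => q.1 ≠ 0 ∧ q.2 ∈ Subgroup.center G), F (z ^ q.1.val * q.2) := by
    intro x
    rw [Finset.sum_comm]
    refine Finset.sum_congr rfl fun q _ => ?_
    rw [Finset.sum_ite_eq Finset.univ (x * (z ^ q.1.val * q.2) * x⁻¹) F,
      if_pos (Finset.mem_univ _), hF]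
  rw [Finset.sum_congr rfl (fun x _ => h3 x), Finset.sum_const, Finset.card_univ, nsmul_eq_mul,
    Nat.card_eq_fintype_card]

end Cfsg.Agent.Lib.Helper16.HPT
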