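import Mathlib
import Cfsg.Agent.Lib.Helper70.SchurTwoA

/-!
# S2049 (helper70 project), piece HeM-QV (helper16)

Every lift of every element of `V = 2^6` is an involution, from the two conjugacy classes `cA`,
`cB`, a pure `E8` and an `E8` with six elements in `cA` and one in `cB`.
-/

set_option autoImplicit false

open scoped commutatorElement

universe u v

namespace Cfsg.Agent.Lib.Helper16.HeMQV

open Cfsg.Agent.Lib.Helper70

/-! ## QV : every lift of every element of `V` is an involution -/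

theorem qOne_V {Γ : Type u} {G : Type v} [Group Γ] [Group G] (σ : Γ →* G)
    (hσ : Function.Surjective σ) (hc : σ.ker ≤ Subgroup.center Γ) (h2 : ∀ ζ ∈ σ.ker, ζ * ζ = 1)
    (e : Fin 64 → G) (hmul : ∀ i j, e i * e j = e (i ^^^ j))
    (i₀ i₁ : Fin 64) (cA cB : Fin 64 → Bool)
    (hA : ∀ i, cA i = true → ∃ k : G, e i = k * e i₀ * k⁻¹)
    (hB : ∀ i, cB i = true → ∃ k : G, e i = k * e i₁ * k⁻¹)
    (hcov : ∀ i, i = 0 ∨ cA i = true ∨ cB i = true)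
    (p₁ p₂ p₃ : Fin 64)
    (hp : cA p₁ = true ∧ cA p₂ = true ∧ cA p₃ = true ∧ cA (p₁ ^^^ p₂) = true ∧
      cA (p₁ ^^^ p₃) = true ∧ cA (p₂ ^^^ p₃) = true ∧ cA (p₁ ^^^ p₂ ^^^ p₃) = true)
    (q₁ q₂ q₃ : Fin 64)
    (hq : cA q₁ = true ∧ cA q₂ = true ∧ cA q₃ = true ∧ cA (q₁ ^^^ q₂) = true ∧
      cA (q₁ ^^^ q₃) = true ∧ cA (q₂ ^^^ q₃) = true ∧ cB (q₁ ^^^ q₂ ^^^ q₃) = true) :
    ∀ i, QOne σ (e i) := by
  have hr : ∀ x : G, x ∈ σ.range := fun x => MonoidHom.mem_range.mpr (hσ x)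
  have hxx : ∀ i : Fin 64, i ^^^ i = 0 := by decide
  have hxc : ∀ i j : Fin 64, i ^^^ j = j ^^^ i := fun i j => Fin.xor_comm i j
  have he0 : e 0 = 1 := by
    have h := hmul 0 0
    rw [hxx 0] at h
    exact mul_left_cancel (a := e 0) (by rw [h, mul_one])
  have hsq : ∀ i, e i * e i = 1 := fun i => by rw [hmul, hxx, he0]
  have hcomm : ∀ i j, e i * e j = e j * e i := fun i j => by rw [hmul, hmul, hxc]
  obtain ⟨hp1, hp2, hp3, hp12, hp13, hp23, hp123⟩ := hp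
  obtain ⟨hq1, hq2, hq3, hq12, hq13, hq23, hq123⟩ := hq
  have hA' : ∀ i, cA i = true → ∃ k ∈ σ.range, e i = k * e i₀ * k⁻¹ := fun i hi => by
    obtain ⟨k, hk⟩ := hA i hi
    exact ⟨k, hr k, hk⟩
  have Q0 : QOne σ (e i₀) :=
    qOne_of_seven_conj hc h2 (hsq i₀) (hr _) (hcomm p₁ p₂) (hcomm p₁ p₃) (hcomm p₂ p₃)
      (hA' p₁ hp1) (hA' p₂ hp2) (hA' p₃ hp3)
      (by rw [hmul]; exact hA' _ hp12) (by rw [hmul]; exact hA' _ hp13)
      (by rw [hmul]; exact hA' _ hp23) (by rw [hmul, hmul]; exact hA' _ hp123)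
  have QA : ∀ i, cA i = true → QOne σ (e i) := by
    intro i hi
    obtain ⟨k, hk⟩ := hA i hi
    rw [hk]
    exact qOne_conj hc h2 (hsq i₀) Q0 (hr _) (hr k)
  have Q6 : QOne σ (e q₁ * e q₂ * e q₃) :=
    qOne_of_six hc h2 (hr _) (hr _) (hr _) (hsq q₁) (hsq q₂) (hsq q₃)
      (hcomm q₁ q₂) (hcomm q₁ q₃) (hcomm q₂ q₃)
      (QA q₁ hq1) (QA q₂ hq2) (QA q₃ hq3) (by rw [hmul]; exact QA _ hq12)
      (by rw [hmul]; exact QA _ hq13) (by rw [hmul]; exact QA _ hq23)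
  rw [hmul, hmul] at Q6
  have Q1 : QOne σ (e i₁) := by
    obtain ⟨k, hk⟩ := hB _ hq123
    have h1 : e i₁ = k⁻¹ * e (q₁ ^^^ q₂ ^^^ q₃) * k⁻¹⁻¹ := by
      rw [hk]
      group
    rw [h1]
    exact qOne_conj hc h2 (hsq _) Q6 (hr _) (hr _)
  have QB : ∀ i, cB i = true → QOne σ (e i) := by
    intro i hi
    obtain ⟨k, hk⟩ := hB i hi
    rw [hk]
    exact qOne_conj hc h2 (hsq i₁) Q1 (hr _) (hr k)
  intro i
  rcases hcov i with h | h | h
  · rw [h, he0]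
    exact qOne_one h2
  · exact QA i h
  · exact QB i h

end Cfsg.Agent.Lib.Helper16.HeMQV
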