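import Mathlib

set_option autoImplicit false

/-! S2175 piece IH (helper16, for helper25): involutions of a coset `H ν` are `H`-conjugate when
`H` has odd exponent. -/

namespace Cfsg.Agent.Lib.Helper25

section Abstract

variable {G : Type*} [Group G]

/-- IH -/
theorem inv_torus_conj (H : Subgroup G) (hcomm : ∀ a ∈ H, ∀ b ∈ H, a * b = b * a)
    (e : ℕ) (he : ∀ a ∈ H, a ^ (2 * e + 1) = 1)
    (ν : G) (hν : ν * ν = 1) (hnorm : ∀ a ∈ H, ν * a * ν⁻¹ ∈ H)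
    (h : G) (hh : h ∈ H) (h2 : (h * ν) * (h * ν) = 1) :
    ∃ k ∈ H, k * (h * ν) * k⁻¹ = ν := by
  refine ⟨h ^ e, H.pow_mem hh e, ?_⟩
  have hνi : ν⁻¹ = ν := inv_eq_of_mul_eq_one_left hν
  have h1 : ν * h * ν⁻¹ = h⁻¹ := by
    rw [hνi]
    have h5 : h * (ν * h * ν) = 1 := by rw [← h2]; group
    exact (inv_eq_of_mul_eq_one_right h5).symm
  have h3 : ν * (h ^ e)⁻¹ * ν⁻¹ = h ^ e := by
    have h6 : ν * (h ^ e)⁻¹ * ν⁻¹ = ((ν * h * ν⁻¹) ^ e)⁻¹ := by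
      rw [conj_pow]; group
    rw [h6, h1, inv_pow, inv_inv]
  have h4 : ν * (h ^ e)⁻¹ = h ^ e * ν := by
    calc ν * (h ^ e)⁻¹ = ν * (h ^ e)⁻¹ * ν⁻¹ * ν := by group
      _ = h ^ e * ν := by rw [h3]
  calc h ^ e * (h * ν) * (h ^ e)⁻¹ = h ^ e * h * (ν * (h ^ e)⁻¹) := by group
    _ = h ^ e * h * (h ^ e * ν) := by rw [h4]
    _ = h ^ (2 * e + 1) * ν := by
        rw [← mul_assoc, ← pow_succ, ← pow_add]
        congr 2
        ring
    _ = ν := by rw [he h hh, one_mul]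

end Abstract

end Cfsg.Agent.Lib.Helper25
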