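import Mathlib
import Cfsg.Agent.Lib.Helper25.ChevW0
import Cfsg.Agent.Lib.Helper24.ChevTorus
import Cfsg.Agent.Lib.Helper24.ChevGL
import Cfsg.Agent.Lib.Helper25.InvChevDefs
import Cfsg.Agent.Lib.Helper16.InvIH

set_option autoImplicit false

/-! S2175 piece CS, core (helper16, for helper25): the assembly of `inv_chev_survivor` from the
statements of the pieces CH, CF, CN, CX, taken here as hypotheses. -/

namespace Cfsg.Agent.Lib.Helper25

open Cfsg Cfsg.Lie Matrix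
open Cfsg.Agent.Lib.Helper24

section

variable {F : Type*} [Field F]

theorem cs_word_GL (D : ChevalleyDatum)
    (hD : D ∈ [chevG2, chevB2, chevD4, chevF4, chevE6, chevE7, chevE8]) (L : List ℕ)
    (hL : ∀ i ∈ L, i < D.rank) :
    ∃ g : GL D.Idx F, (g : Matrix D.Idx D.Idx F) = nWordMat F D L ∧
      g ∈ D.monomialSubgroup F := by
  obtain ⟨g, hg, hmem⟩ := exists_nWordGL (F := F) D hD L hL
  exact ⟨g, hg, simple_n_le_monomial D hD hmem⟩

theorem cs_conj_mem (D : ChevalleyDatum)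
    (hD : D ∈ [chevG2, chevB2, chevD4, chevF4, chevE6, chevE7, chevE8])
    (g : GL D.Idx F) (hg : g ∈ D.monomialSubgroup F) (a : GL D.Idx F)
    (ha : a ∈ D.diagonalSubgroup F) : g * a * g⁻¹ ∈ D.diagonalSubgroup F := by
  have hD' : D ∈ chevList := hD
  exact ((Subgroup.mem_set_normalizer_iff.1 (monomial_le_normalizer_diagonal D hD' hg)) a).1 ha

theorem cs_diag_le_mono (D : ChevalleyDatum) :
    D.diagonalSubgroup F ≤ D.monomialSubgroup F := by
  unfold ChevalleyDatum.monomialSubgroup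
  exact le_sup_left

theorem cs_nProd_cons (D : ChevalleyDatum) (r : ℕ) (Γ : List ℕ) :
    nProd F D (r :: Γ) = D.nMat F r 1 * nProd F D Γ := by
  unfold nProd
  rw [List.map_cons, List.prod_cons]

theorem cs_nProd_nil (D : ChevalleyDatum) : nProd F D [] = 1 := by
  unfold nProd
  rw [List.map_nil, List.prod_nil]

theorem cs_xProd_cons (D : ChevalleyDatum) (r : ℕ) (Γ : List ℕ) :
    xProd F D (r :: Γ) = D.x F r 1 * xProd F D Γ := by
  unfold xProd
  rw [List.map_cons, List.prod_cons]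

theorem cs_xProd_nil (D : ChevalleyDatum) : xProd F D [] = 1 := by
  unfold xProd
  rw [List.map_nil, List.prod_nil]

theorem cs_reflWord_cons (e : List ℕ × ℕ) (od : List (List ℕ × ℕ)) :
    reflWord (e :: od) = (e.1 ++ [e.2] ++ e.1.reverse) ++ reflWord od := by
  unfold reflWord
  rw [List.flatMap_cons]

theorem cs_reflWord_nil : reflWord [] = [] := rfl

theorem cs_nWordMat_nil (D : ChevalleyDatum) : nWordMat F D [] = 1 := by
  unfold nWordMat
  rw [List.map_nil, List.prod_nil]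

theorem cs_word_lt (D : ChevalleyDatum) (e : List ℕ × ℕ)
    (he : (∀ i ∈ e.1, i < D.rank) ∧ e.2 < D.rank) :
    ∀ i ∈ e.1 ++ [e.2] ++ e.1.reverse, i < D.rank := by
  intro i hi
  simp only [List.mem_append, List.mem_singleton, List.mem_reverse] at hi
  rcases hi with (hi | rfl) | hi
  · exact he.1 i hi
  · exact he.2
  · exact he.1 i hi

theorem cs_reflWord_lt (D : ChevalleyDatum) (od : List (List ℕ × ℕ))
    (hod : ∀ e ∈ od, (∀ i ∈ e.1, i < D.rank) ∧ e.2 < D.rank) :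
    ∀ i ∈ reflWord od, i < D.rank := by
  intro i hi
  unfold reflWord at hi
  rw [List.mem_flatMap] at hi
  obtain ⟨e, he, hi⟩ := hi
  exact cs_word_lt D e (hod e he) i hi

theorem cs_nprod (D : ChevalleyDatum)
    (hD : D ∈ [chevG2, chevB2, chevD4, chevF4, chevE6, chevE7, chevE8])
    (od : List (List ℕ × ℕ)) (hod : ∀ e ∈ od, (∀ i ∈ e.1, i < D.rank) ∧ e.2 < D.rank)
    (hCN : ∀ e ∈ od, ∃ h ∈ D.diagonalSubgroup F, D.nMat F (wPi D e.1 (D.simple e.2)) 1 =
      (h : Matrix D.Idx D.Idx F) * nWordMat F D (e.1 ++ [e.2] ++ e.1.reverse)) :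
    ∃ h' ∈ D.diagonalSubgroup F, nProd F D (od.map fun e => wPi D e.1 (D.simple e.2)) =
      (h' : Matrix D.Idx D.Idx F) * nWordMat F D (reflWord od) := by
  induction od with
  | nil =>
    refine ⟨1, Subgroup.one_mem _, ?_⟩
    rw [List.map_nil, cs_nProd_nil, cs_reflWord_nil, cs_nWordMat_nil, Units.val_one,
      Matrix.one_mul]
  | cons e od ih =>
    obtain ⟨h', hh', ih'⟩ := ih (fun e' he' => hod e' (by simp [he']))
      (fun e' he' => hCN e' (by simp [he']))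
    obtain ⟨he, hhe, hne⟩ := hCN e (by simp)
    obtain ⟨g, hg, hgm⟩ := cs_word_GL (F := F) D hD _ (cs_word_lt D e (hod e (by simp)))
    refine ⟨he * (g * h' * g⁻¹), Subgroup.mul_mem _ hhe (cs_conj_mem D hD g hgm h' hh'), ?_⟩
    have e2 : nWordMat F D (reflWord (e :: od)) =
        (g : Matrix D.Idx D.Idx F) * nWordMat F D (reflWord od) := by
      rw [cs_reflWord_cons, nWordMat_append, hg]
    have e1 : ((he * (g * h' * g⁻¹) : GL D.Idx F) : Matrix D.Idx D.Idx F) *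
        (g : Matrix D.Idx D.Idx F) =
        (he : Matrix D.Idx D.Idx F) * (g : Matrix D.Idx D.Idx F) *
          (h' : Matrix D.Idx D.Idx F) := by
      rw [← Units.val_mul, ← Units.val_mul, ← Units.val_mul]
      congr 1
      group
    rw [List.map_cons, cs_nProd_cons, ih', hne, e2, ← hg]
    calc (he : Matrix D.Idx D.Idx F) * (g : Matrix D.Idx D.Idx F) *
          ((h' : Matrix D.Idx D.Idx F) * nWordMat F D (reflWord od))
        = ((he : Matrix D.Idx D.Idx F) * (g : Matrix D.Idx D.Idx F) *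
            (h' : Matrix D.Idx D.Idx F)) * nWordMat F D (reflWord od) := by
          simp only [Matrix.mul_assoc]
      _ = (((he * (g * h' * g⁻¹) : GL D.Idx F) : Matrix D.Idx D.Idx F) *
            (g : Matrix D.Idx D.Idx F)) * nWordMat F D (reflWord od) := by rw [e1]
      _ = ((he * (g * h' * g⁻¹) : GL D.Idx F) : Matrix D.Idx D.Idx F) *
            ((g : Matrix D.Idx D.Idx F) * nWordMat F D (reflWord od)) := by
          simp only [Matrix.mul_assoc]

theorem cs_xprod_GL (D : ChevalleyDatum)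
    (hD : D ∈ [chevG2, chevB2, chevD4, chevF4, chevE6, chevE7, chevE8]) (Γ : List ℕ) :
    ∃ g ∈ D.group F, ((g : GL D.Idx F) : Matrix D.Idx D.Idx F) = xProd F D Γ := by
  have hD' : D ∈ chevList := hD
  induction Γ with
  | nil => exact ⟨1, Subgroup.one_mem _, by rw [cs_xProd_nil, Units.val_one]⟩
  | cons r Γ ih =>
    obtain ⟨g, hg, hgv⟩ := ih
    refine ⟨xGL D hD' r 1 * g, Subgroup.mul_mem _ (xGL_mem_group D hD' r 1) hg, ?_⟩
    rw [Units.val_mul, xGL_val, hgv, cs_xProd_cons]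

/-- the assembly of CS from the statements of CH, CF, CN, CX -/
theorem cs_core (D : ChevalleyDatum)
    (hD : D ∈ [chevG2, chevB2, chevD4, chevF4, chevE6, chevE7, chevE8])
    (v : List ℕ) (hv : ∀ i ∈ v, i < D.rank)
    (od : List (List ℕ × ℕ)) (hod : ∀ e ∈ od, (∀ i ∈ e.1, i < D.rank) ∧ e.2 < D.rank)
    (Bs : List ℕ) (hBs : Bs = od.map fun e => wPi D e.1 (D.simple e.2))
    (hCH1 : ∀ a ∈ D.diagonalSubgroup F, ∀ b ∈ D.diagonalSubgroup F, a * b = b * a)
    (hCH2 : ∃ e : ℕ, ∀ a ∈ D.diagonalSubgroup F, a ^ (2 * e + 1) = 1)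
    (hCF : ∃ h ∈ D.diagonalSubgroup F,
      nWordMat F D (reflWord od) = (h : Matrix D.Idx D.Idx F) * nWordMat F D v)
    (hCN : ∀ e ∈ od, ∃ h ∈ D.diagonalSubgroup F, D.nMat F (wPi D e.1 (D.simple e.2)) 1 =
      (h : Matrix D.Idx D.Idx F) * nWordMat F D (e.1 ++ [e.2] ++ e.1.reverse))
    (hCX : nProd F D Bs * xProd F D (Bs.map D.neg) = xProd F D (Bs.map D.neg) * xProd F D Bs ∧
      nProd F D Bs * nProd F D Bs = 1)
    (n : GL D.Idx F) (h : GL D.Idx F) (hh : h ∈ D.diagonalSubgroup F)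
    (hn : (n : Matrix D.Idx D.Idx F) = (h : Matrix D.Idx D.Idx F) * nWordMat F D v)
    (h2 : n * n = 1) :
    ∃ c ∈ D.group F, ((c * n * c⁻¹ : GL D.Idx F) : Matrix D.Idx D.Idx F) = xProd F D Bs := by
  have hD' : D ∈ chevList := hD
  obtain ⟨e, he⟩ := hCH2
  obtain ⟨h', hh', hnp⟩ := cs_nprod D hD od hod hCN
  rw [← hBs] at hnp
  obtain ⟨h'', hh'', hw⟩ := hCF
  obtain ⟨gv, hgv, hgvm⟩ := cs_word_GL (F := F) D hD v hv
  have hh3m : h' * h'' ∈ D.diagonalSubgroup F := Subgroup.mul_mem _ hh' hh''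
  have hνv : ((h' * h'' * gv : GL D.Idx F) : Matrix D.Idx D.Idx F) = nProd F D Bs := by
    rw [hnp, hw, Units.val_mul, Units.val_mul, hgv, Matrix.mul_assoc]
  have hνm : h' * h'' * gv ∈ D.monomialSubgroup F :=
    Subgroup.mul_mem _ (cs_diag_le_mono D hh3m) hgvm
  have hnG : n = h * gv := by
    apply Units.ext
    rw [Units.val_mul, hgv, hn]
  have hνν : (h' * h'' * gv) * (h' * h'' * gv) = 1 := by
    apply Units.ext
    rw [Units.val_mul, hνv, hCX.2, Units.val_one]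
  have hnorm : ∀ a ∈ D.diagonalSubgroup F,
      (h' * h'' * gv) * a * (h' * h'' * gv)⁻¹ ∈ D.diagonalSubgroup F :=
    fun a ha => cs_conj_mem D hD _ hνm a ha
  have hn' : n = (h * (h' * h'')⁻¹) * (h' * h'' * gv) := by rw [hnG]; group
  have h2' : ((h * (h' * h'')⁻¹) * (h' * h'' * gv)) * ((h * (h' * h'')⁻¹) * (h' * h'' * gv)) = 1 := by
    rw [← hn']; exact h2
  obtain ⟨k, hk, hkc⟩ := inv_torus_conj (D.diagonalSubgroup F) hCH1 e he (h' * h'' * gv) hνν hnorm
    (h * (h' * h'')⁻¹) (Subgroup.mul_mem _ hh (Subgroup.inv_mem _ hh3m)) h2'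
  rw [← hn'] at hkc
  obtain ⟨gx, hgx, hgxv⟩ := cs_xprod_GL (F := F) D hD (Bs.map D.neg)
  refine ⟨gx⁻¹ * k, Subgroup.mul_mem _ (Subgroup.inv_mem _ hgx)
    (diagonalSubgroup_le_group D hD' hk), ?_⟩
  have e1 : gx⁻¹ * k * n * (gx⁻¹ * k)⁻¹ = gx⁻¹ * (k * n * k⁻¹) * gx := by group
  rw [e1, hkc, Units.val_mul, Units.val_mul, hνv, hgxv, Matrix.mul_assoc, hCX.1, ← hgxv,
    ← Matrix.mul_assoc, Units.inv_mul, Matrix.one_mul]

end

end Cfsg.Agent.Lib.Helper25
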