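import Mathlib
import Cfsg.Agent.Lib.Helper16.InvCSCore
import Cfsg.Agent.Lib.Helper19.InvCH
import Cfsg.Agent.Lib.Helper29.InvCF
import Cfsg.Agent.Lib.Helper57.InvCX

set_option autoImplicit false

/-! S2175 piece CS (helper16, for helper25): an involution `h * nWordMat v` of a survivor class is
conjugate to the product `xProd Bs` of root elements.  (The statement of piece CN is proved here
as `cs_nMat_orbit`, from the faithfulness lemma of piece CF.) -/

namespace Cfsg.Agent.Lib.Helper25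

open Cfsg Cfsg.Lie Matrix
open Cfsg.Agent.Lib.Helper8 Cfsg.Agent.Lib.Helper24

section

variable {F : Type*} [Field F]

/-- the statement of piece CN: `n_β(1) = h * nWordMat (u i u⁻¹)` for `β = u(p_i)` -/
theorem cs_nMat_orbit [CharP F 2] (D : ChevalleyDatum)
    (hD : D ∈ [chevG2, chevB2, chevD4, chevF4, chevE6, chevE7, chevE8])
    (u : List ℕ) (hu : ∀ i ∈ u, i < D.rank) (i : ℕ) (hi : i < D.rank) :
    ∃ h ∈ D.diagonalSubgroup F, D.nMat F (wPi D u (D.simple i)) 1 =
      (h : Matrix D.Idx D.Idx F) * nWordMat F D (u ++ [i] ++ u.reverse) := by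
  have hD' : D ∈ chevList := hD
  have hur : ∀ j ∈ u.reverse, j < D.rank := fun j hj => hu j (List.mem_reverse.1 hj)
  have huur : ∀ j ∈ u ++ u.reverse, j < D.rank := by
    intro j hj
    rcases List.mem_append.1 hj with h | h
    · exact hu j h
    · exact hur j h
  have hfix : ∀ j < D.rank, wPi D (u ++ u.reverse) (D.simple j) = D.simple j := by
    intro j hj
    rw [wPi_append]
    exact wPi_reverse_cancel D hD u hu _ (simple_lt D hD' j hj)
  obtain ⟨h0, hh0, hh0v⟩ := cf_faithful (F := F) D hD (u ++ u.reverse) huur hfix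
  have hs : D.simple i < D.nroots := simple_lt D hD' i hi
  have e : ((wEta D u (D.simple i) : ℤ) : F) * 1 = 1 := by
    rcases wEta_cases D u (D.simple i) with h | h
    · rw [h]; simp
    · rw [h]; push_cast; rw [CharTwo.neg_eq, one_mul]
  have ha := nWordMat_mul_nMat (F := F) D hD u hu (D.simple i) hs 1
  rw [e] at ha
  have hL : ∀ j ∈ u ++ [i] ++ u.reverse, j < D.rank := cs_word_lt D (u, i) ⟨hu, hi⟩
  obtain ⟨g, hg, hgm⟩ := cs_word_GL (F := F) D hD _ hL
  refine ⟨g * h0⁻¹ * g⁻¹, cs_conj_mem D hD g hgm h0⁻¹ (Subgroup.inv_mem _ hh0), ?_⟩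
  have e1 : nWordMat F D (u ++ u.reverse) = nWordMat F D u * nWordMat F D u.reverse :=
    nWordMat_append D u u.reverse
  have e3 : nWordMat F D [i] = D.nMat F (D.simple i) 1 := by
    rw [nWordMat_cons, cs_nWordMat_nil, Matrix.mul_one]
  have e2 : nWordMat F D (u ++ [i] ++ u.reverse) =
      nWordMat F D u * D.nMat F (D.simple i) 1 * nWordMat F D u.reverse := by
    rw [nWordMat_append, nWordMat_append, e3]
  have h1 : D.nMat F (wPi D u (D.simple i)) 1 * (h0 : Matrix D.Idx D.Idx F) =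
      (g : Matrix D.Idx D.Idx F) := by
    rw [hh0v, hg, e1, e2, ← Matrix.mul_assoc, ← ha]
  calc D.nMat F (wPi D u (D.simple i)) 1
      = D.nMat F (wPi D u (D.simple i)) 1 * ((h0 : Matrix D.Idx D.Idx F) *
          ((h0⁻¹ : GL D.Idx F) : Matrix D.Idx D.Idx F)) := by
        rw [Units.mul_inv, Matrix.mul_one]
    _ = (g : Matrix D.Idx D.Idx F) * ((h0⁻¹ : GL D.Idx F) : Matrix D.Idx D.Idx F) := by
        rw [← Matrix.mul_assoc, h1]
    _ = ((g * h0⁻¹ * g⁻¹ : GL D.Idx F) : Matrix D.Idx D.Idx F) *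
          (g : Matrix D.Idx D.Idx F) := by
        rw [← Units.val_mul, ← Units.val_mul]
        congr 1
        group
    _ = ((g * h0⁻¹ * g⁻¹ : GL D.Idx F) : Matrix D.Idx D.Idx F) *
          nWordMat F D (u ++ [i] ++ u.reverse) := by rw [hg]

/-- CS -/
theorem inv_chev_survivor [Fintype F] [CharP F 2] (D : ChevalleyDatum)
    (hD : D ∈ [chevG2, chevB2, chevD4, chevF4, chevE6, chevE7, chevE8])
    (v : List ℕ) (hv : ∀ i ∈ v, i < D.rank)
    (od : List (List ℕ × ℕ)) (hod : ∀ e ∈ od, (∀ i ∈ e.1, i < D.rank) ∧ e.2 < D.rank)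
    (Bs : List ℕ) (hBs : Bs = od.map fun e => wPi D e.1 (D.simple e.2)) (hnd : Bs.Nodup)
    (hcomm : ∀ b ∈ Bs, ∀ b' ∈ Bs, b ≠ b' → ∀ r ∈ [b, D.neg b], ∀ r' ∈ [b', D.neg b'],
      D.x F r 1 * D.x F r' 1 = D.x F r' 1 * D.x F r 1)
    (hfix : ∀ i < D.rank, wPi D (reflWord od ++ v.reverse) (D.simple i) = D.simple i)
    (n : GL D.Idx F) (h : GL D.Idx F) (hh : h ∈ D.diagonalSubgroup F)
    (hn : (n : Matrix D.Idx D.Idx F) = (h : Matrix D.Idx D.Idx F) * nWordMat F D v)
    (h2 : n * n = 1) :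
    ∃ c ∈ D.group F, ((c * n * c⁻¹ : GL D.Idx F) : Matrix D.Idx D.Idx F) = xProd F D Bs := by
  have hD' : D ∈ chevList := hD
  have hB : ∀ b ∈ Bs, b < D.nroots := by
    intro b hb
    rw [hBs, List.mem_map] at hb
    obtain ⟨e, he, rfl⟩ := hb
    exact wPi_lt D hD e.1 (hod e he).1 _ (simple_lt D hD' e.2 (hod e he).2)
  obtain ⟨hc1, hc2⟩ := inv_chev_torus (F := F) D hD
  have hCX := inv_chev_nprod (F := F) D hD Bs hB hnd hcomm
  exact cs_core D hD v hv od hod Bs hBs hc1 hc2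
    (inv_chev_word_coset (F := F) D hD (reflWord od) v (cs_reflWord_lt D od hod) hv hfix)
    (fun e he => cs_nMat_orbit (F := F) D hD e.1 (hod e he).1 e.2 (hod e he).2)
    ⟨hCX.1, hCX.2.1⟩ n h hh hn h2

end

end Cfsg.Agent.Lib.Helper25
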