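import Mathlib
import Cfsg.Agent.Lib.Helper25.ChevNWord
import Cfsg.Agent.Lib.Helper25.InvChevDefs

set_option autoImplicit false

/-! S2175 piece CW (helper16, for helper25): conjugating a product of root elements `x_b(1)` by a
Weyl word, in characteristic two. -/

namespace Cfsg.Agent.Lib.Helper25

open Cfsg Cfsg.Lie Matrix
open Cfsg.Agent.Lib.Helper24

section

variable {F : Type*} [Field F]

theorem cw_xProd_cons (D : ChevalleyDatum) (r : ℕ) (Γ : List ℕ) :
    xProd F D (r :: Γ) = D.x F r 1 * xProd F D Γ := by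
  unfold xProd
  rw [List.map_cons, List.prod_cons]

theorem cw_xProd_nil (D : ChevalleyDatum) : xProd F D [] = 1 := by
  unfold xProd
  rw [List.map_nil, List.prod_nil]

/-- CW -/
theorem inv_chev_weyl_conj [CharP F 2] (D : ChevalleyDatum)
    (hD : D ∈ [chevG2, chevB2, chevD4, chevF4, chevE6, chevE7, chevE8])
    (u : List ℕ) (hu : ∀ i ∈ u, i < D.rank) (Γ : List ℕ) (hΓ : ∀ r ∈ Γ, r < D.nroots) :
    nWordMat F D u * xProd F D Γ = xProd F D (Γ.map (wPi D u)) * nWordMat F D u := by
  induction Γ with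
  | nil => rw [List.map_nil, cw_xProd_nil, Matrix.mul_one, Matrix.one_mul]
  | cons r Γ ih =>
    have hr : r < D.nroots := hΓ r (by simp)
    have hΓ' : ∀ r' ∈ Γ, r' < D.nroots := fun r' h => hΓ r' (by simp [h])
    have e : ((wEta D u r : ℤ) : F) * 1 = 1 := by
      rcases wEta_cases D u r with h | h
      · rw [h]; simp
      · rw [h]; push_cast; rw [CharTwo.neg_eq, one_mul]
    rw [List.map_cons, cw_xProd_cons, cw_xProd_cons, ← Matrix.mul_assoc,
      nWordMat_conj D hD u hu r hr 1, e, Matrix.mul_assoc, ih hΓ', Matrix.mul_assoc]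

end

end Cfsg.Agent.Lib.Helper25
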