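import Cfsg.Agent.Lib.Helper41.TW3

set_option autoImplicit false

namespace Cfsg.Agent.Lib.Helper16.TWP

open Cfsg Cfsg.Agent.Lib.Helper66 Cfsg.Agent.Lib.Helper41.TW

variable {G : Type*} [Group G] [Finite G] {X Y A1 B1 A2 B2 : Subgroup G}

/-- Piece S1I of S5752: components of `Y` are components of `X`. -/
theorem step1_I (S : Setting X Y A1 B1 A2 B2) (hYX : ∀ J', RC J' Y → J' ≤ X)
    (hXY : ∀ J', RC J' X → J' ≤ Y) {J1 : Subgroup G} (h1 : RC J1 B2) :
    ∀ J', RC J' Y → RC J' X := by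
  have hBX : ∀ J, RC J B2 → RC J X := fun J hJ =>
    (hJ.of_normal S.B2_le_A1 S.A1_norm_B2).of_normal S.A1_le_X S.X_norm_A1
  -- (ii)
  have hEX_X : sSup {J | RC J X} ≤ X := sSup_rc_le X
  have hEX_Y : sSup {J | RC J X} ≤ Y := sSup_le fun J hJ => hXY J hJ
  have hX_nEX : X ≤ Subgroup.normalizer ((sSup {J | RC J X} : Subgroup G) : Set G) :=
    le_normalizer_sSup_rc Subgroup.le_normalizer
  have hEX_A1 : sSup {J | RC J X} ≤ A1 := S.le_A1 hEX_X hEX_Y hX_nEX
  have hEY_Y : sSup {J | RC J Y} ≤ Y := sSup_rc_le Y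
  have hEY_X : sSup {J | RC J Y} ≤ X := sSup_le fun J hJ => hYX J hJ
  have hY_nEY : Y ≤ Subgroup.normalizer ((sSup {J | RC J Y} : Subgroup G) : Set G) :=
    le_normalizer_sSup_rc Subgroup.le_normalizer
  have hEY_B1 : sSup {J | RC J Y} ≤ B1 := S.le_B1 hEY_Y hEY_X hY_nEY
  -- (iii)
  have hEB_EX : sSup {J | RC J B2} ≤ sSup {J | RC J X} :=
    sSup_le fun J hJ => le_sSup (hBX J hJ)
  have hEB_ne : sSup {J | RC J B2} ≠ ⊥ := by
    intro h
    apply h1.ne
    have h2 : J1 ≤ sSup {J | RC J B2} := le_sSup h1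
    rw [h] at h2
    exact le_bot_iff.1 h2
  have hEB_Y : sSup {J | RC J B2} ≤ Y := (sSup_rc_le B2).trans S.B2_le_Y
  have hY_nEB : Y ≤ Subgroup.normalizer ((sSup {J | RC J B2} : Subgroup G) : Set G) :=
    le_normalizer_sSup_rc S.Y_norm_B2
  have hCEB : Subgroup.centralizer ((sSup {J | RC J B2} : Subgroup G) : Set G) ≤ Y :=
    S.centralizer_le_Y hEB_Y hY_nEB hEB_ne
  -- (iv)
  have hC_Y : X ⊓ Subgroup.centralizer ((sSup {J | RC J X} : Subgroup G) : Set G) ≤ Y :=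
    inf_le_right.trans ((Subgroup.centralizer_le hEB_EX).trans hCEB)
  have hX_nC : X ≤ Subgroup.normalizer
      ((X ⊓ Subgroup.centralizer ((sSup {J | RC J X} : Subgroup G) : Set G) : Subgroup G) : Set G) :=
    inf_le_normalizer_inf Subgroup.le_normalizer
      (hX_nEX.trans (normalizer_le_normalizer_centralizer _))
  have hC_A1 : X ⊓ Subgroup.centralizer ((sSup {J | RC J X} : Subgroup G) : Set G) ≤ A1 :=
    S.le_A1 inf_le_left hC_Y hX_nC
  -- (v)
  have hv : ∀ J', RC J' Y → J' ≤ A1 := by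
    intro J' hJ'
    by_cases hJX : RC J' X
    · have h0 : J' ≤ sSup {J | RC J X} := le_sSup (show J' ∈ {J | RC J X} from hJX)
      exact h0.trans hEX_A1
    · have hJ'X : J' ≤ X := hYX J' hJ'
      have hcent : sSup {J | RC J X} ≤ Subgroup.centralizer (J' : Set G) := by
        apply sSup_le
        intro J hJ
        have hJY : J ≤ Y := hXY J hJ
        have r1 : RC J (X ⊓ Y) := RC.of_le hJ (le_inf hJ.le hJY) inf_le_left
        have r2 : RC J' (X ⊓ Y) := RC.of_le hJ' (le_inf hJ'X hJ'.le) inf_le_right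
        rcases r1.eq_or_comm r2 with h | h
        · exfalso
          exact hJX (h ▸ hJ)
        · exact Subgroup.commutator_eq_bot_iff_le_centralizer.mp h
      have h3 : J' ≤ Subgroup.centralizer ((sSup {J | RC J X} : Subgroup G) : Set G) :=
        Subgroup.le_centralizer_iff.mp hcent
      exact (le_inf hJ'X h3).trans hC_A1
  -- (vi)
  have hEY_A1 : sSup {J | RC J Y} ≤ A1 := sSup_le fun J hJ => hv J hJ
  have hEY_B2 : sSup {J | RC J Y} ≤ B2 := S.le_B2 hEY_B1 hEY_A1 hY_nEY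
  -- (vii)
  intro J' hJ'
  have h0 : J' ≤ sSup {J | RC J Y} := le_sSup (show J' ∈ {J | RC J Y} from hJ')
  exact hBX J' (RC.of_le hJ' (h0.trans hEY_B2) S.B2_le_Y)

end Cfsg.Agent.Lib.Helper16.TWP
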